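import Cfsg.Agent.Lib.Brauer43.Block
import Cfsg.Agent.Lib.Brauer43.Degrees
import Cfsg.Agent.Lib.CharApps.Codegree
import Cfsg.Agent.Lib.Blocks.CyclicFourier
import Cfsg.Agent.S0840

/-!
# The unipotent cuspidal character of a simple group of order `62400`

In a simple group of order `62400` with self-centralizing elements of order `13`, some irreducible
character has no fixed vector under any element of order `13`.
-/

set_option linter.unusedSectionVars false
set_option linter.style.haveILetI false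

namespace CfsgLib.CharsMore.U34

open Cfsg CfsgLib.Chars Finset
open scoped ComplexConjugate

theorem signed_deg_fin : ∀ d : Fin 250, (d : ℕ) ∣ 62400 → (d : ℕ) ≠ 1 →
    ((d : ℕ) % 13 = 1 → (d : ℕ) = 40) ∧
    ((d : ℕ) % 13 = 12 → (d : ℕ) = 12 ∨ (d : ℕ) = 25 ∨ (d : ℕ) = 64) ∧
    ((d : ℕ) % 13 = 3 → (d : ℕ) = 3 ∨ (d : ℕ) = 16 ∨ (d : ℕ) = 120) ∧
    ((d : ℕ) % 13 = 10 → (d : ℕ) = 10 ∨ (d : ℕ) = 75 ∨ (d : ℕ) = 192) := by
  decide +kernel

theorem signed_deg (d : ℕ) (hd : d < 250) (h : d ∣ 62400) (h1 : d ≠ 1) :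
    (d % 13 = 1 → d = 40) ∧ (d % 13 = 12 → d = 12 ∨ d = 25 ∨ d = 64) ∧
    (d % 13 = 3 → d = 3 ∨ d = 16 ∨ d = 120) ∧ (d % 13 = 10 → d = 10 ∨ d = 75 ∨ d = 192) :=
  signed_deg_fin ⟨d, hd⟩ h h1

theorem involution_values : ∀ i : Fin 51, ∀ j : Fin 81,
    ((i : ℤ) - 25) ≠ 25 →
      400 - 16 * ((i : ℤ) - 25) ^ 2 + 10 * ((j : ℤ) - 40) ^ 2
        - 25 * (1 - ((i : ℤ) - 25) + ((j : ℤ) - 40)) ^ 2 ≠ 0 := by
  decide +kernel

/-- The degree equation: apart from one exceptional case, a degree `12` occurs. -/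
theorem deg_cases {a b d : ℕ} {s u e : ℤ} (hs : s = 1 ∨ s = -1) (hu : u = 1 ∨ u = -1)
    (he : e = 1 ∨ e = -1) (ha : a < 250) (hb : b < 250) (hd : d < 250) (ha1 : a ≠ 1) (hb1 : b ≠ 1)
    (hadvd : a ∣ 62400) (hbdvd : b ∣ 62400) (hddvd : d ∣ 62400)
    (hsa : (a : ℤ) ≡ s [ZMOD 13]) (hub : (b : ℤ) ≡ u [ZMOD 13]) (hed : (d : ℤ) ≡ e * 3 [ZMOD 13])
    (hrel : e * d = 1 + s * a + u * b) (hsq : 1 + a * a + b * b + 4 * (d * d) ≤ 62400) :
    (a = 12 ∧ s = -1) ∨ (b = 12 ∧ u = -1) ∨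
      (a = 25 ∧ s = -1 ∧ b = 40 ∧ u = 1 ∧ d = 16 ∧ e = 1) ∨
      (b = 25 ∧ u = -1 ∧ a = 40 ∧ s = 1 ∧ d = 16 ∧ e = 1) := by
  have hA := signed_deg a ha hadvd ha1
  have hB := signed_deg b hb hbdvd hb1
  have hd1 : d ≠ 1 := by
    rintro rfl
    unfold Int.ModEq at hed
    omega
  have hD := signed_deg d hd hddvd hd1
  unfold Int.ModEq at hsa hub hed
  rcases hs with rfl | rfl <;> rcases hu with rfl | rfl <;> rcases he with rfl | rfl
  all_goals
    first
      | have hA' := hA.1 (by omega)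
      | have hA' := hA.2.1 (by omega)
    first
      | have hB' := hB.1 (by omega)
      | have hB' := hB.2.1 (by omega)
    first
      | have hD' := hD.2.2.1 (by omega)
      | have hD' := hD.2.2.2 (by omega)
    rcases hA' with rfl | rfl | rfl <;> rcases hB' with rfl | rfl | rfl <;>
      rcases hD' with rfl | rfl | rfl <;> omega

variable {G : Type*} [Group G] [Finite G] [IsSimpleGroup G]

/-- A nonprincipal character of a simple group is faithful. -/
theorem apply_ne_degree {χ : IrrCharacter G} (hχ : χ ≠ principal G) {t : G} (ht : t ≠ 1) :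
    (χ : G → ℂ) t ≠ (χ : G → ℂ) 1 := by
  haveI := Fintype.ofFinite G
  intro h
  haveI := CharApps.charKer_normal χ
  rcases IsSimpleGroup.eq_bot_or_eq_top_of_normal _ (CharApps.charKer_normal χ) with h0 | h0
  · exact ht (Subgroup.mem_bot.1 (h0 ▸ (CharApps.mem_charKer.2 h)))
  · have hconst : (χ : G → ℂ) = (χ : G → ℂ) 1 • (principal G : G → ℂ) := by
      funext g
      rw [Pi.smul_apply, principal_apply, smul_eq_mul, mul_one]
      exact CharApps.mem_charKer.1 (h0 ▸ Subgroup.mem_top g)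
    have h1 := inner_irr_ne (χ := χ) (ψ := principal G) hχ
    rw [hconst, Chars.inner_smul_left, inner_irr_self, mul_one] at h1
    exact CharApps.deg_ne_zero χ h1

theorem exists_fpf_char (hG : Nat.card G = 62400)
    (hC : ∀ x : G, orderOf x = 13 → Nat.card (Subgroup.centralizer ({x} : Set G)) = 13) :
    ∃ χ : IrrCharacter G, ∀ x : G, orderOf x = 13 →
      ∑ i ∈ Finset.range 13, (χ : G → ℂ) (x ^ i) = 0 := by
  classical
  haveI : Fact (Nat.Prime 13) := ⟨by norm_num⟩
  haveI : Fact (Nat.Prime 2) := ⟨Nat.prime_two⟩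
  haveI := Fintype.ofFinite G
  haveI := irrFintype G
  obtain ⟨P⟩ : Nonempty (Sylow 13 G) := inferInstance
  have hP : Nat.card (P : Subgroup G) = 13 := by
    obtain ⟨k, hk⟩ := P.2.exists_card_eq
    have h1 : 13 ^ k ∣ 62400 := hk ▸ hG ▸ Subgroup.card_subgroup_dvd_card _
    have h2 : 13 ∣ Nat.card (P : Subgroup G) := P.dvd_card_of_dvd_card (by rw [hG]; norm_num)
    rw [hk] at h2
    rcases k with _ | _ | k
    · norm_num at h2
    · exact hk.trans (pow_one 13)
    · exact absurd ((dvd_trans ⟨13 ^ k, by ring⟩ h1 : 13 ^ 2 ∣ 62400)) (by norm_num)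
  obtain ⟨x₀, hx₀⟩ := exists_prime_orderOf_dvd_card' 13 (show 13 ∣ Nat.card (P : Subgroup G) by rw [hP])
  have hx₀' : orderOf (x₀ : G) = 13 := by rw [Subgroup.orderOf_coe, hx₀]
  have hx1 : (x₀ : G) ≠ 1 := fun h => by rw [h, orderOf_one] at hx₀'; omega
  have hcen : Subgroup.centralizer ((P : Subgroup G) : Set G) = P := by
    rw [← Brauer43.centralizer_singleton_eq hP x₀.2 hx1]
    refine (Subgroup.eq_of_le_of_card_ge (fun y hy => ?_) (by rw [hC _ hx₀', hP])).symm
    haveI : IsCyclic (P : Subgroup G) := isCyclic_of_prime_card hP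
    exact Subgroup.mem_centralizer_singleton_iff.2
      (congrArg Subtype.val (IsCyclic.commGroup.mul_comm (⟨y, hy⟩ : (P : Subgroup G)) x₀))
  have hperf : commutator G = ⊤ := by
    refine (IsSimpleGroup.eq_bot_or_eq_top_of_normal _ inferInstance).resolve_left fun h => ?_
    have hab : Subgroup.centralizer ({(x₀ : G)} : Set G) = ⊤ := by
      refine eq_top_iff.2 fun y _ => Subgroup.mem_centralizer_singleton_iff.2 ?_
      have h1 := Subgroup.commutator_mem_commutator (Subgroup.mem_top y) (Subgroup.mem_top (x₀ : G))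
      rw [← commutator_def, h, Subgroup.mem_bot, commutatorElement_eq_one_iff_mul_comm] at h1
      exact h1
    have h1 := hC _ hx₀'
    rw [hab, Subgroup.card_top, hG] at h1
    omega
  -- the normalizer has order `39`
  set N := Subgroup.normalizer ((P : Subgroup G) : Set G)
  have hNe : Nat.card N = 13 * Brauer43.autIndex P := by
    have h1 := Subgroup.card_mul_index ((P : Subgroup G).subgroupOf N)
    rw [Nat.card_congr (Subgroup.subgroupOfEquivOfLe Subgroup.le_normalizer).toEquiv, hP] at h1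
    rw [← h1, Brauer43.autIndex, hcen]
    rfl
  have he : Brauer43.autIndex P = 3 := by
    have h1 := N.card_mul_index
    rw [hNe, show N.index = Nat.card (Sylow 13 G) from P.card_eq_index_normalizer.symm, hG] at h1
    have h2 := card_sylow_modEq_one 13 G
    have h3 : Brauer43.autIndex P ∣ 12 := Brauer43.autIndex_dvd hP
    generalize Brauer43.autIndex P = e at h1 h3
    generalize Nat.card (Sylow 13 G) = n at h1 h2
    unfold Nat.ModEq at h2
    have : e ∈ Nat.divisors 12 := Nat.mem_divisors.2 ⟨h3, by norm_num⟩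
    rw [show Nat.divisors 12 = {1, 2, 3, 4, 6, 12} by decide] at this
    simp only [Finset.mem_insert, Finset.mem_singleton] at this
    rcases this with rfl | rfl | rfl | rfl | rfl | rfl <;> omega
  obtain ⟨X, Y, εX, ε, hpr, hεp, hdisj, hXc, hYc, hε, hX, hY, hrel, hsumY, hnorm⟩ :=
    Brauer43.exists_block_data hperf hP
  rw [he] at hXc hYc hY
  have hY4 : Y.card = 4 := by omega
  -- nonprincipal members
  have hX2 : (X.erase (principal G)).card = 2 := by rw [Finset.card_erase_of_mem hpr]; omega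
  obtain ⟨χa, χb, hne, hab⟩ := Finset.card_eq_two.1 hX2
  have haX : χa ∈ X ∧ χa ≠ principal G := by
    have : χa ∈ X.erase (principal G) := by rw [hab]; simp
    exact ⟨Finset.mem_of_mem_erase this, Finset.ne_of_mem_erase this⟩
  have hbX : χb ∈ X ∧ χb ≠ principal G := by
    have : χb ∈ X.erase (principal G) := by rw [hab]; simp
    exact ⟨Finset.mem_of_mem_erase this, Finset.ne_of_mem_erase this⟩
  have hsumX : ∀ f : IrrCharacter G → ℂ, ∑ χ ∈ X, f χ = f (principal G) + f χa + f χb := fun f => by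
    rw [← Finset.add_sum_erase _ _ hpr, hab, Finset.sum_pair hne]; ring
  obtain ⟨θ₀, hθ₀⟩ : Y.Nonempty := Finset.card_pos.1 (by omega)
  have h1reg : ¬ 13 ∣ orderOf (1 : G) := by simp
  have hεε : (ε : ℂ) * ε = 1 := by rcases hε with e' | e' <;> rw [e'] <;> norm_num
  have hθeq : ∀ g : G, ¬ 13 ∣ orderOf g → ∀ θ ∈ Y, (θ : G → ℂ) g = (θ₀ : G → ℂ) g :=
    fun g hg θ hθ => mul_left_cancel₀ (left_ne_zero_of_mul_eq_one hεε)
      ((hrel θ hθ g hg).trans (hrel θ₀ hθ₀ g hg).symm)
  -- degrees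
  set a := charDegree (χa : G → ℂ)
  set b := charDegree (χb : G → ℂ)
  set d := charDegree (θ₀ : G → ℂ)
  have hdvd : ∀ χ : IrrCharacter G, charDegree (χ : G → ℂ) ∣ 62400 := fun χ => by
    obtain ⟨n, -, hn, hd'⟩ := irr_degree_dvd_card χ.2
    rw [CharApps.deg_eq, Nat.cast_inj] at hn
    rwa [hn, ← hG]
  have hsq : 1 + a * a + b * b + 4 * (d * d) ≤ 62400 := by
    have h1 : ∑ χ ∈ X ∪ Y, (charDegree (χ : G → ℂ) : ℝ) * charDegree (χ : G → ℂ) ≤ (Nat.card G : ℝ) := by
      refine (Finset.sum_le_sum_of_subset_of_nonneg (Finset.subset_univ _)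
        (fun χ _ _ => mul_nonneg (Nat.cast_nonneg _) (Nat.cast_nonneg _))).trans ?_
      refine le_of_eq (Complex.ofReal_injective ?_)
      rw [Complex.ofReal_sum, Complex.ofReal_natCast, ← sum_degree_sq (G := G)]
      refine Finset.sum_congr rfl fun χ _ => ?_
      push_cast
      rw [CharApps.deg_eq]; ring
    rw [Finset.sum_union hdisj, ← Finset.add_sum_erase _ _ hpr, hab, Finset.sum_pair hne,
      Finset.sum_congr rfl (s₁ := Y) (g := fun _ => (d : ℝ) * d) (fun θ hθ => ?_),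
      Finset.sum_const, hY4, hG] at h1
    · have hpd : charDegree (principal G : G → ℂ) = 1 :=
        Nat.cast_injective (R := ℂ) (by rw [← CharApps.deg_eq, principal_apply, Nat.cast_one])
      rw [hpd, nsmul_eq_mul] at h1
      have : ((1 + a * a + b * b + 4 * (d * d) : ℕ) : ℝ) ≤ ((62400 : ℕ) : ℝ) := by
        push_cast at h1 ⊢; linarith
      exact_mod_cast this
    · have := hθeq 1 h1reg θ hθ
      rw [CharApps.deg_eq, CharApps.deg_eq, Nat.cast_inj] at this
      rw [this]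
  have hlt : a < 250 ∧ b < 250 ∧ d < 250 := by
    refine ⟨?_, ?_, ?_⟩ <;> by_contra hh <;> push Not at hh <;>
      have := Nat.mul_le_mul hh hh <;> omega
  have hreld : ε * (d : ℤ) = 1 + εX χa * a + εX χb * b := by
    have h := hrel θ₀ hθ₀ 1 h1reg
    rw [hsumX, hεp, principal_apply, CharApps.deg_eq, CharApps.deg_eq, CharApps.deg_eq] at h
    simp only [Int.cast_one, one_mul] at h
    exact_mod_cast h
  -- a character of degree `12` taking the value `-1`
  have finish : ∀ χ ∈ X, charDegree (χ : G → ℂ) = 12 → εX χ = -1 →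
      ∀ x : G, orderOf x = 13 → ∑ i ∈ Finset.range 13, (χ : G → ℂ) (x ^ i) = 0 := by
    intro χ hχ h12 hm x hx
    let Q : Sylow 13 G := Sylow.ofCard (Subgroup.zpowers x) (by
      rw [Nat.card_zpowers, hx]
      have h13 : (Nat.card G).factorization 13 = 1 := by
        have := P.card_eq_multiplicity
        rw [hP] at this
        exact (Nat.pow_right_injective (show 2 ≤ 13 by norm_num) ((pow_one 13).trans this)).symm
      rw [h13, pow_one])
    obtain ⟨g, hg⟩ := MulAction.exists_smul_eq G P Q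
    rw [Finset.range_eq_Ico, Finset.sum_eq_sum_Ico_succ_bot (by norm_num : 0 < 13), pow_zero,
      CharApps.deg_eq, h12, Finset.sum_congr rfl (g := fun _ => (-1 : ℂ)) fun i hi => ?_]
    · simp
    · have hi' := Finset.mem_Ico.1 hi
      have hxi : x ^ i ∈ (Q : Subgroup G) := pow_mem (Subgroup.mem_zpowers x) i
      rw [← hg, Sylow.coe_subgroup_smul, Subgroup.mem_pointwise_smul_iff_inv_smul_mem] at hxi
      have hval := (hX χ hχ).2.2 ((MulAut.conj g)⁻¹ • x ^ i) hxi
        (fun h => ?_) 1 (one_mem _) h1reg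
      · rw [mul_one, hm] at hval
        rw [show (MulAut.conj g)⁻¹ • x ^ i = g⁻¹ * x ^ i * g⁻¹⁻¹ by
            rw [MulAut.smul_def, MulAut.conj_inv_apply, inv_inv],
          isClassFunction_irr χ] at hval
        simpa using hval
      · rw [inv_smul_eq_iff, smul_one] at h
        have := orderOf_dvd_of_pow_eq_one h
        rw [hx] at this
        have := Nat.le_of_dvd (by omega) this
        omega
  have hdeg1 : ∀ χ : IrrCharacter G, χ ≠ principal G → charDegree (χ : G → ℂ) ≠ 1 :=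
    fun χ h h1 => h (Brauer43.eq_principal_of_degree_one hperf h1)
  rcases deg_cases (hX χa haX.1).1 (hX χb hbX.1).1 hε hlt.1 hlt.2.1 hlt.2.2 (hdeg1 χa haX.2)
      (hdeg1 χb hbX.2) (hdvd χa) (hdvd χb) (hdvd θ₀) (hX χa haX.1).2.1 (hX χb hbX.1).2.1
      (hY θ₀ hθ₀) hreld hsq with h | h | h
  · exact ⟨χa, finish χa haX.1 h.1 h.2⟩
  · exact ⟨χb, finish χb hbX.1 h.1 h.2⟩
  -- the case `25 + ... = 40 + ...` is excluded by an involution
  exfalso
  obtain ⟨t, ht⟩ := exists_prime_orderOf_dvd_card' 2 (show 2 ∣ Nat.card G by rw [hG]; norm_num)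
  have htt : t * t = 1 := by rw [← sq, ← ht]; exact pow_orderOf_eq_one t
  have ht1 : t ≠ 1 := fun h => by rw [h, orderOf_one] at ht; omega
  have htreg : ¬ 13 ∣ orderOf t := by rw [ht]; norm_num
  -- no product of two conjugates of `t` is `x₀`
  have hzero : Nat.card {p : G × G // IsConj t p.1 ∧ IsConj t p.2 ∧ p.1 * p.2 = (x₀ : G)} = 0 := by
    rw [Finite.card_eq_zero_iff]
    refine ⟨fun ⟨⟨c, c'⟩, hc, hc', hp⟩ => ?_⟩
    obtain ⟨g, rfl⟩ := isConj_iff.1 hc
    obtain ⟨g', rfl⟩ := isConj_iff.1 hc'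
    have h2 : g * t * g⁻¹ * (g * t * g⁻¹) = 1 := by
      rw [show g * t * g⁻¹ * (g * t * g⁻¹) = g * (t * t) * g⁻¹ by group, htt]; group
    have h3 : g' * t * g'⁻¹ * (g' * t * g'⁻¹) = 1 := by
      rw [show g' * t * g'⁻¹ * (g' * t * g'⁻¹) = g' * (t * t) * g'⁻¹ by group, htt]; group
    have hinv : g * t * g⁻¹ * x₀ * (g * t * g⁻¹)⁻¹ = (x₀ : G)⁻¹ := by
      rw [← hp, mul_inv_rev (g * t * g⁻¹), inv_eq_of_mul_eq_one_right h2,
        inv_eq_of_mul_eq_one_right h3, ← mul_assoc (g * t * g⁻¹) (g * t * g⁻¹), h2, one_mul]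
    have hmem : g * t * g⁻¹ ∈ N := by
      refine Subgroup.mem_normalizer_iff.2 ?_
      have hPz := Blocks.zpowers_eq_of_prime_card hP x₀.2 hx1
      have key : ∀ z ∈ (P : Subgroup G), g * t * g⁻¹ * z * (g * t * g⁻¹)⁻¹ ∈ (P : Subgroup G) := by
        intro z hz
        rw [← hPz] at hz
        obtain ⟨k, rfl⟩ := hz
        dsimp only
        rw [← conj_zpow, hinv]
        exact zpow_mem (inv_mem x₀.2) k
      have hcinv : (g * t * g⁻¹)⁻¹ = g * t * g⁻¹ := inv_eq_of_mul_eq_one_right h2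
      intro z
      refine ⟨fun hz => key z hz, fun hz => ?_⟩
      have := key _ hz
      generalize g * t * g⁻¹ = c at h2 hcinv this ⊢
      rwa [hcinv, show c * (c * z * c) * c = c * c * z * (c * c) by group, h2, one_mul, mul_one]
        at this
    have h39 : orderOf (g * t * g⁻¹) ∣ 39 := by
      have := orderOf_dvd_natCard (⟨g * t * g⁻¹, hmem⟩ : N)
      rw [Subgroup.orderOf_mk, hNe, he] at this
      exact this
    rw [show g * t * g⁻¹ = MulAut.conj g t from rfl, MulEquiv.orderOf_eq, ht] at h39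
    norm_num at h39
  have hS := Cfsg.Agent.S0840.result t t (x₀ : G)
  rw [hzero, Nat.cast_zero, finsum_eq_sum_of_fintype] at hS
  haveI : Nonempty {x : G // IsConj t x} := ⟨⟨t, IsConj.refl t⟩⟩
  have hne0 : (Nat.card {x : G // IsConj t x} : ℂ) * (Nat.card {x : G // IsConj t x} : ℂ) /
      (Nat.card G : ℂ) ≠ 0 := div_ne_zero (mul_ne_zero (Nat.cast_ne_zero.2 Nat.card_pos.ne')
        (Nat.cast_ne_zero.2 Nat.card_pos.ne')) (card_ne_zero G)
  have hS' := (mul_eq_zero.1 hS.symm).resolve_left hne0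
  have hout : ∀ χ : IrrCharacter G, χ ∉ X ∪ Y → (χ : G → ℂ) x₀ = 0 := by
    intro χ hχ
    have h1 := second_orthogonality (x₀ : G) (x₀ : G)
    rw [if_pos (IsConj.refl _), hC _ hx₀', ← Finset.sum_sdiff (Finset.subset_univ (X ∪ Y)),
      Finset.sum_union hdisj, hnorm _ x₀.2 hx1] at h1
    have h2 : ∑ χ ∈ Finset.univ \ (X ∪ Y), Complex.normSq ((χ : G → ℂ) x₀) = 0 := by
      refine Complex.ofReal_injective ?_
      rw [Complex.ofReal_sum, Complex.ofReal_zero]
      simp only [← Complex.mul_conj]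
      linear_combination h1
    rw [← Complex.normSq_eq_zero]
    exact (Finset.sum_eq_zero_iff_of_nonneg fun c _ => Complex.normSq_nonneg _).1 h2 χ
      (Finset.mem_sdiff.2 ⟨Finset.mem_univ χ, hχ⟩)
  rw [← Finset.sum_subset (Finset.subset_univ (X ∪ Y)) (fun χ _ hχ => by
      rw [hout χ hχ, map_zero, mul_zero, zero_div]), Finset.sum_union hdisj, hsumX] at hS'
  have hXv : ∀ χ ∈ X, conj ((χ : G → ℂ) x₀) = (εX χ : ℂ) := fun χ hχ => by
    have := (hX χ hχ).2.2 x₀ x₀.2 hx1 1 (one_mem _) h1reg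
    rw [mul_one] at this
    rw [this, map_intCast]
  rw [hXv _ hpr, hXv _ haX.1, hXv _ hbX.1, hεp,
    Finset.sum_congr rfl (s₁ := Y) (g := fun θ : IrrCharacter G =>
      (θ₀ : G → ℂ) t * (θ₀ : G → ℂ) t / (θ₀ : G → ℂ) 1 * conj ((θ : G → ℂ) x₀)) (fun θ hθ => by
        rw [hθeq t htreg θ hθ, hθeq 1 h1reg θ hθ]; ring),
    ← Finset.mul_sum, ← map_sum, hsumY _ x₀.2 hx1, map_neg, map_intCast,
    CharApps.deg_eq θ₀, CharApps.deg_eq χa, CharApps.deg_eq χb] at hS'
  simp only [principal_apply, Int.cast_one] at hS'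
  have hw := hrel θ₀ hθ₀ t htreg
  rw [hsumX, hεp, principal_apply] at hw
  simp only [Int.cast_one, one_mul] at hw
  have bound : ∀ χ : IrrCharacter G, χ ≠ principal G → ∃ m : ℤ, (m : ℂ) = (χ : G → ℂ) t ∧
      -(charDegree (χ : G → ℂ) : ℤ) ≤ m ∧ m < (charDegree (χ : G → ℂ) : ℤ) := by
    intro χ hχ
    obtain ⟨m, hm, -⟩ := Blocks.exists_int_invol_parity χ htt
    have h1 := char_norm_le (isCharacter_of_irr χ.2) t
    rw [← hm, CharApps.deg_eq, Complex.norm_intCast, Complex.natCast_re] at h1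
    have h2 : |m| ≤ (charDegree (χ : G → ℂ) : ℤ) := by exact_mod_cast h1
    rw [abs_le] at h2
    refine ⟨m, hm, h2.1, lt_of_le_of_ne h2.2 fun h => apply_ne_degree hχ ht1 ?_⟩
    rw [← hm, h, CharApps.deg_eq, Int.cast_natCast]
  obtain ⟨u, hu, hu1, hu2⟩ := bound χa haX.2
  obtain ⟨v, hv, hv1, hv2⟩ := bound χb hbX.2
  rw [← hu, ← hv] at hS' hw
  have core : ∀ p q : ℤ, -25 ≤ p → p < 25 → -40 ≤ q → q ≤ 40 →
      (1 : ℂ) - (p : ℂ) * p / 25 + (q : ℂ) * q / 40 - (1 - p + q) * (1 - p + q) / 16 ≠ 0 := by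
    intro p q h1 h2 h3 h4 heq
    have hz : ((400 - 16 * p ^ 2 + 10 * q ^ 2 - 25 * (1 - p + q) ^ 2 : ℤ) : ℂ) = 0 := by
      push_cast
      linear_combination (400 : ℂ) * heq
    have hiv := involution_values ⟨(p + 25).toNat, by omega⟩ ⟨(q + 40).toNat, by omega⟩
    simp only [Int.toNat_of_nonneg (show (0 : ℤ) ≤ p + 25 by omega),
      Int.toNat_of_nonneg (show (0 : ℤ) ≤ q + 40 by omega), add_sub_cancel_right] at hiv
    exact hiv (by omega) (by exact_mod_cast hz)
  rcases h with ⟨ha', hsa', hb', hub', hd', he'⟩ | ⟨hb', hub', ha', hsa', hd', he'⟩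
  · rw [hsa', hub', he'] at hS' hw
    rw [show (charDegree (χa : G → ℂ)) = 25 from ha', show (charDegree (χb : G → ℂ)) = 40 from hb',
      show (charDegree (θ₀ : G → ℂ)) = 16 from hd'] at hS'
    rw [show (charDegree (χa : G → ℂ)) = 25 from ha'] at hu1 hu2
    rw [show (charDegree (χb : G → ℂ)) = 40 from hb'] at hv1 hv2
    push_cast at hS' hw hu1 hu2 hv1 hv2
    rw [show (θ₀ : G → ℂ) t = 1 - u + v by linear_combination hw] at hS'
    exact core u v hu1 hu2 hv1 hv2.le (by linear_combination hS')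
  · rw [hsa', hub', he'] at hS' hw
    rw [show (charDegree (χa : G → ℂ)) = 40 from ha', show (charDegree (χb : G → ℂ)) = 25 from hb',
      show (charDegree (θ₀ : G → ℂ)) = 16 from hd'] at hS'
    rw [show (charDegree (χa : G → ℂ)) = 40 from ha'] at hu1 hu2
    rw [show (charDegree (χb : G → ℂ)) = 25 from hb'] at hv1 hv2
    push_cast at hS' hw hu1 hu2 hv1 hv2
    rw [show (θ₀ : G → ℂ) t = 1 + u - v by linear_combination hw] at hS'
    exact core v u hv1 hv2 hu1 hu2.le (by linear_combination hS')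

end CfsgLib.CharsMore.U34
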