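import Cfsg.Agent.Lib.Rec.ThreeSpectrum
import Cfsg.Agent.Lib.Classical.UnitarySimple
import Cfsg.Agent.Lib.Classical.UnitaryOrder

/-!
# The orders of the elements of `SU₃(4)`
-/

set_option linter.unusedSectionVars false
set_option linter.style.haveILetI false

namespace CfsgLib.CharsMore.U34

open Matrix CfsgLib.Rec.ThreeSpectrum

/-- `GF(4)`. -/
abbrev K4 : Type := QuadraticAlgebra (ZMod 2) 1 1

/-- `GF(16)`. -/
abbrev K16 : Type := QuadraticAlgebra K4 ⟨0, 1⟩ 1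

/-- Fourth power, written out. -/
def p4 {R : Type*} [Mul R] (x : R) : R := x * x * (x * x)

instance : DecidableEq K16 := fun a b => decidable_of_iff (a.re = b.re ∧ a.im = b.im)
  QuadraticAlgebra.ext_iff.symm

theorem red_K16 : ∀ a b c d : ZMod 2,
    red (⟨⟨a, b⟩, ⟨c, d⟩⟩ : K16) (p4 (⟨⟨a, b⟩, ⟨c, d⟩⟩ : K16)) 4 = (0, 0, 1) ∨
    red (⟨⟨a, b⟩, ⟨c, d⟩⟩ : K16) (p4 (⟨⟨a, b⟩, ⟨c, d⟩⟩ : K16)) 10 = (0, 0, 1) ∨
    red (⟨⟨a, b⟩, ⟨c, d⟩⟩ : K16) (p4 (⟨⟨a, b⟩, ⟨c, d⟩⟩ : K16)) 13 = (0, 0, 1) ∨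
    red (⟨⟨a, b⟩, ⟨c, d⟩⟩ : K16) (p4 (⟨⟨a, b⟩, ⟨c, d⟩⟩ : K16)) 15 = (0, 0, 1) := by decide +kernel

theorem irr_K4 : ∀ a b : ZMod 2, (⟨a, b⟩ : K4) ^ 2 ≠ (⟨0, 1⟩ : K4) + 1 * ⟨a, b⟩ := by
  decide +kernel

theorem exists_ringEquiv_K16 {F : Type*} [Field F] [Fintype F] (hF : Fintype.card F = 16) :
    Nonempty (K16 ≃+* F) := by
  haveI : Fact (∀ r : ZMod 2, r ^ 2 ≠ (1 : ZMod 2) + 1 * r) := ⟨by decide⟩
  haveI : Fact (∀ r : K4, r ^ 2 ≠ (⟨0, 1⟩ : K4) + 1 * r) := ⟨fun r => irr_K4 r.re r.im⟩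
  haveI : Finite K4 := Finite.of_equiv _ (QuadraticAlgebra.equivProd (1 : ZMod 2) 1).symm
  haveI : Finite K16 := Finite.of_equiv _ (QuadraticAlgebra.equivProd (⟨0, 1⟩ : K4) 1).symm
  letI := Fintype.ofFinite K16
  have h : Fintype.card K16 = 16 := by
    rw [← Nat.card_eq_fintype_card, Nat.card_congr (QuadraticAlgebra.equivProd (⟨0, 1⟩ : K4) 1),
      Nat.card_prod, Nat.card_congr (QuadraticAlgebra.equivProd (1 : ZMod 2) 1), Nat.card_prod,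
      Nat.card_zmod]
  exact ⟨FiniteField.ringEquivOfCardEq (h.trans hF.symm)⟩

variable {F : Type*} [Field F]

theorem hermForm_mulVec_four [CharP F 2] (A : Matrix (Fin 3) (Fin 3) F) (u v : Fin 3 → F) :
    Cfsg.hermForm 3 F 4 (A *ᵥ u) (A *ᵥ v) =
      u ⬝ᵥ ((A.transpose * A.map p4) *ᵥ fun i => v i ^ 4) := by
  rw [← Matrix.mulVec_mulVec, Matrix.dotProduct_mulVec, Matrix.vecMul_transpose]
  show ∑ i, (A *ᵥ u) i * (A *ᵥ v) i ^ 4 = ∑ i, _
  refine Finset.sum_congr rfl fun i _ => ?_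
  congr 1
  show (∑ j, A i j * v j) ^ 4 = ∑ j, p4 (A i j) * v j ^ 4
  rw [show (4 : ℕ) = 2 ^ 2 from rfl, sum_pow_char_pow]
  exact Finset.sum_congr rfl fun j _ => by rw [p4]; ring

/-- Witnesses of order `10` and `15`. -/
def wit16 : Fin 2 → Matrix (Fin 3) (Fin 3) K16 :=
  ![!![0, ⟨0, ⟨0, 1⟩⟩, 0; ⟨0, ⟨0, 1⟩⟩, 0, 0; 0, 0, ⟨⟨0, 1⟩, ⟨1, 1⟩⟩],
    !![⟨0, ⟨1, 0⟩⟩, ⟨0, ⟨1, 1⟩⟩, 0; ⟨⟨1, 1⟩, ⟨1, 0⟩⟩, ⟨⟨1, 0⟩, ⟨0, 1⟩⟩, 0;
      0, 0, ⟨0, ⟨0, 1⟩⟩]]

theorem wit16_spec : ∀ i : Fin 2, (wit16 i).det = 1 ∧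
    (wit16 i).transpose * (wit16 i).map p4 = 1 ∧
    wit16 i ^ (![10, 15] i) = 1 ∧
    ∀ k < (![10, 15] i : ℕ), 0 < k → wit16 i ^ k ≠ 1 := by decide +kernel

variable [Fintype F]

theorem charP_two (hF : Fintype.card F = 16) : CharP F 2 := by
  obtain ⟨p, hc⟩ := CharP.exists F
  haveI := hc
  obtain ⟨n, hp, hn⟩ := FiniteField.card F p
  rw [hF] at hn
  have : p ∣ 2 := hp.dvd_of_dvd_pow (show p ∣ 2 ^ 4 from (show (2:ℕ) ^ 4 = p ^ (n : ℕ) from hn) ▸ dvd_pow_self p n.ne_zero)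
  rwa [(Nat.prime_dvd_prime_iff_eq hp Nat.prime_two).1 this] at hc

theorem center_bot (hF : Fintype.card F = 16) : Subgroup.center (Cfsg.SU 3 F 4) = ⊥ := by
  have hF' : Nat.card F = 4 ^ 2 := by rw [Nat.card_eq_fintype_card, hF]; norm_num
  exact Subgroup.eq_bot_of_card_eq _
    (by rw [CfsgLib.Classical.card_center_SU hF' (by norm_num)]; norm_num)

/-- `PSU₃(4) ≅ SU₃(4)`. -/
noncomputable def equivSU (hF : Fintype.card F = 16) : Cfsg.PSU 3 F 4 ≃* Cfsg.SU 3 F 4 :=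
  (QuotientGroup.quotientMulEquivOfEq (center_bot hF)).trans QuotientGroup.quotientBot

theorem card_PSU (hF : Fintype.card F = 16) : Nat.card (Cfsg.PSU 3 F 4) = 62400 := by
  have hF' : Nat.card F = 4 ^ 2 := by rw [Nat.card_eq_fintype_card, hF]; norm_num
  have h := CfsgLib.Classical.card_PSU_mul (n := 3) hF' (by norm_num)
  rw [CfsgLib.Classical.card_GU hF', Finset.prod_range_succ, Finset.prod_range_succ,
    Finset.prod_range_succ, Finset.prod_range_zero] at h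
  norm_num at h
  omega

theorem order_cases (hF : Fintype.card F = 16) (g : Cfsg.PSU 3 F 4) :
    orderOf g ∣ 4 ∨ orderOf g ∣ 10 ∨ orderOf g ∣ 13 ∨ orderOf g ∣ 15 := by
  rw [← (equivSU hF).orderOf_eq g]
  generalize equivSU hF g = A
  obtain ⟨φ⟩ := exists_ringEquiv_K16 hF
  haveI := charP_two hF
  let M := A.1.1
  obtain ⟨⟨⟨a, b⟩, ⟨c, d⟩⟩, ht⟩ := φ.surjective M.trace
  have horth : M.transpose * M.map p4 = 1 := by
    ext i j
    have h := A.2 (Pi.single i 1) (Pi.single j 1)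
    change Cfsg.hermForm 3 F 4 (M *ᵥ Pi.single i 1) (M *ᵥ Pi.single j 1) = _ at h
    rw [hermForm_mulVec_four] at h
    have e : (fun k => (Pi.single j 1 : Fin 3 → F) k ^ 4) = Pi.single j 1 := by
      funext k
      rcases eq_or_ne k j with rfl | hk
      · simp
      · simp [hk]
    rw [e, Matrix.mulVec_single_one, single_one_dotProduct] at h
    refine h.trans ?_
    show ∑ k, (Pi.single i 1 : Fin 3 → F) k * (Pi.single j 1 : Fin 3 → F) k ^ 4 = _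
    rw [Finset.sum_eq_single i (fun k _ hk => by simp [hk]) (by simp)]
    rcases eq_or_ne i j with rfl | hij
    · simp
    · simp [hij]
  have hadj : M.adjugate = (M.map p4).transpose := by
    have h1 : (M.map p4).transpose * M = 1 := by
      rw [← Matrix.transpose_transpose M, ← Matrix.transpose_mul, Matrix.transpose_transpose, horth,
        Matrix.transpose_one]
    have h2 : M * M.adjugate = 1 := by rw [Matrix.mul_adjugate, A.1.2, one_smul]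
    exact (left_inv_eq_right_inv h1 h2).symm
  have hs : M.adjugate.trace = p4 M.trace := by
    rw [hadj, Matrix.trace_transpose]
    simp only [Matrix.trace, Matrix.diag, Matrix.map_apply, Fin.sum_univ_three]
    have h4 : ∀ x : F, p4 x = x ^ 2 ^ 2 := fun x => by rw [p4]; ring
    simp only [h4, add_pow_char_pow]
  have key : ∀ k, red (⟨⟨a, b⟩, ⟨c, d⟩⟩ : K16) (p4 (⟨⟨a, b⟩, ⟨c, d⟩⟩ : K16)) k = (0, 0, 1) →
      orderOf A ∣ k := fun k h => by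
    refine orderOf_dvd_of_pow_eq_one (Subtype.ext (Subtype.ext ?_))
    rw [SubgroupClass.coe_pow, Matrix.SpecialLinearGroup.coe_pow]
    refine pow_eq_one_of_red _ A.1.2 ?_
    show red M.trace M.adjugate.trace k = _
    rw [hs, ← ht, p4, ← map_mul, ← map_mul]
    show red ((φ : K16 →+* F) _) ((φ : K16 →+* F) _) k = _
    rw [red_map, show (⟨⟨a, b⟩, ⟨c, d⟩⟩ : K16) * ⟨⟨a, b⟩, ⟨c, d⟩⟩ *
      (⟨⟨a, b⟩, ⟨c, d⟩⟩ * ⟨⟨a, b⟩, ⟨c, d⟩⟩) = p4 (⟨⟨a, b⟩, ⟨c, d⟩⟩ : K16) from rfl, h]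
    simp
  exact (red_K16 a b c d).imp (key _) fun h => h.imp (key _) fun h => h.imp (key _) (key _)

theorem exists_order_wit (hF : Fintype.card F = 16) (i : Fin 2) :
    ∃ g : Cfsg.PSU 3 F 4, orderOf g = ![10, 15] i := by
  obtain ⟨φ⟩ := exists_ringEquiv_K16 hF
  haveI := charP_two hF
  obtain ⟨hd, horth, h1, h2⟩ := wit16_spec i
  let g : Matrix.SpecialLinearGroup (Fin 3) F := ⟨(wit16 i).map φ, by
    rw [← RingEquiv.coe_toRingHom, ← RingHom.mapMatrix_apply, ← RingHom.map_det, hd, map_one]⟩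
  have hgU : g ∈ Cfsg.SU 3 F 4 := by
    intro u v
    show Cfsg.hermForm 3 F 4 ((wit16 i).map φ *ᵥ u) ((wit16 i).map φ *ᵥ v) = _
    rw [hermForm_mulVec_four]
    have e : ((wit16 i).map φ).transpose * ((wit16 i).map φ).map p4 = 1 := by
      have h0 := congrArg (fun X => (φ : K16 →+* F).mapMatrix X) horth
      simp only [map_mul, map_one] at h0
      rw [← h0]
      congr 1
      ext p r; simp [p4]
    rw [e, Matrix.one_mulVec]; rfl
  have hpos : 0 < (![10, 15] i : ℕ) := by fin_cases i <;> simp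
  refine ⟨(equivSU hF).symm ⟨g, hgU⟩, ?_⟩
  rw [(equivSU hF).symm.orderOf_eq, Subgroup.orderOf_mk, orderOf_eq_iff hpos]
  have hpow : ∀ k, ((g ^ k).1 : Matrix (Fin 3) (Fin 3) F) = (φ : K16 →+* F).mapMatrix (wit16 i ^ k) := fun k => by
    rw [Matrix.SpecialLinearGroup.coe_pow, map_pow]; rfl
  refine ⟨Subtype.ext (by rw [hpow, h1, map_one]; rfl), fun k hk hk0 e => h2 k hk hk0 ?_⟩
  have e1 := congrArg Subtype.val e
  rw [hpow] at e1
  exact Matrix.map_injective φ.injective (e1.trans (Matrix.map_one φ (map_zero φ) (map_one φ)).symm)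

theorem isSimple (hF : Fintype.card F = 16) : IsSimpleGroup (Cfsg.PSU 3 F 4) :=
  CfsgLib.Classical.Unitary.isSimpleGroup_PSU (by rw [Nat.card_eq_fintype_card, hF]; norm_num)
    le_rfl (fun _ => by norm_num)

end CfsgLib.CharsMore.U34
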