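import Cfsg.Agent.Lib.CharsMore.U34.Chars
import Mathlib

/-!
# Modules without fixed points from a complex character

An irreducible character without fixed vectors under the elements of a given prime order gives
modular representations with the same property, and so groups with few new element orders.
-/

set_option linter.unusedSectionVars false
set_option linter.style.haveILetI false

namespace CfsgLib.CharsMore.U34

open Cfsg CfsgLib.Chars Module

variable {G : Type*} [Group G] [Finite G]

/-- An average with vanishing trace vanishes. -/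
theorem sum_pow_eq_zero {n m : ℕ} (ρ : Representation ℂ G (Fin n → ℂ)) {x : G}
    (hx : orderOf x = m) (hm : 0 < m)
    (h : ∑ i ∈ Finset.range m, ρ.character (x ^ i) = 0) : ∑ i ∈ Finset.range m, ρ (x ^ i) = 0 := by
  set S : Module.End ℂ (Fin n → ℂ) := ∑ i ∈ Finset.range m, ρ (x ^ i) with hS
  have hmul : ∀ j, ρ (x ^ j) * S = S := by
    intro j
    induction j with
    | zero => rw [pow_zero, map_one, one_mul]
    | succ j ih =>
      rw [pow_succ, map_mul, mul_assoc]
      suffices e : ρ x * S = S by rw [e, ih]
      rw [hS, Finset.mul_sum]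
      simp only [← map_mul, ← pow_succ']
      have h1 := Finset.sum_range_succ' (fun i => ρ (x ^ i)) m
      have h2 := Finset.sum_range_succ (fun i => ρ (x ^ i)) m
      rw [h2, show x ^ m = x ^ 0 by rw [pow_zero, ← hx, pow_orderOf_eq_one]] at h1
      exact (add_right_cancel h1).symm
  have hm0 : (m : ℂ) ≠ 0 := Nat.cast_ne_zero.2 hm.ne'
  set P := (m : ℂ)⁻¹ • S with hP
  have hidem : IsIdempotentElem P := by
    show P * P = P
    have hSS : S * S = (m : ℂ) • S := by
      conv_lhs => arg 1; rw [hS]
      rw [Finset.sum_mul, Finset.sum_congr rfl fun i _ => hmul i, Finset.sum_const, Finset.card_range]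
      exact (Nat.cast_smul_eq_nsmul ℂ m S).symm
    rw [hP, smul_mul_smul_comm, hSS, smul_smul]
    congr 1
    field_simp
  have htr := (LinearMap.isProj_range_iff_isIdempotentElem P).2 hidem |>.trace
  have h0 : LinearMap.trace ℂ (Fin n → ℂ) P = 0 := by
    rw [hP, map_smul, hS, map_sum]
    simp only [Representation.character] at h
    rw [h, smul_zero]
  rw [h0, eq_comm, Nat.cast_eq_zero, Submodule.finrank_eq_zero, LinearMap.range_eq_bot, hP,
    smul_eq_zero] at htr
  exact htr.resolve_left (inv_ne_zero hm0)

/-- The integral lattice of a representation reduced modulo a prime. -/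
theorem exists_modular_hom {n : ℕ} [NeZero n] (ρ : Representation ℂ G (Fin n → ℂ)) (l : ℕ) :
    ∃ (r : ℕ) (μ : G →* Matrix (Fin r) (Fin r) (ZMod l)), 0 < r ∧
      ∀ (s : Finset ℕ) (f : ℕ → G), ∑ i ∈ s, ρ (f i) = 0 → ∑ i ∈ s, μ (f i) = 0 := by
  classical
  let E := Module.End ℂ (Fin n → ℂ)
  let Λ : Submodule ℤ E := Submodule.span ℤ (Set.range fun g : G => ρ g)
  haveI : IsAddTorsionFree E := .of_isTorsionFree ℂ E
  haveI : Module.Finite ℤ Λ := Module.Finite.span_of_finite ℤ (Set.finite_range _)
  haveI : Module.Free ℤ Λ := Module.free_of_finite_type_torsion_free'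
  have hinv : ∀ g : G, ∀ a ∈ Λ, LinearMap.mulLeft ℤ (ρ g : E) a ∈ Λ := by
    intro g a ha
    induction ha using Submodule.span_induction with
    | mem a ha =>
      obtain ⟨g', rfl⟩ := ha
      exact Submodule.subset_span ⟨g * g', by simp [LinearMap.mulLeft_apply]⟩
    | zero => simp
    | add a b _ _ h1 h2 => rw [map_add]; exact add_mem h1 h2
    | smul c a _ h1 => rw [map_smul]; exact Submodule.smul_mem _ _ h1
  let L : G → Module.End ℤ Λ := fun g => (LinearMap.mulLeft ℤ (ρ g : E)).restrict (hinv g)
  have hL : ∀ g a, ((L g a : Λ) : E) = ρ g * (a : E) := fun g a => rfl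
  let b := Module.finBasis ℤ Λ
  let Lh : G →* Module.End ℤ Λ :=
    { toFun := L
      map_one' := LinearMap.ext fun a => Subtype.ext (by rw [hL]; simp)
      map_mul' := fun g g' => LinearMap.ext fun a => Subtype.ext (by
        rw [hL, Module.End.mul_apply, hL, hL, map_mul, mul_assoc]) }
  refine ⟨Module.finrank ℤ Λ, ((RingHom.mapMatrix (Int.castRingHom (ZMod l))).comp
    (LinearMap.toMatrixAlgEquiv b).toAlgHom.toRingHom).toMonoidHom.comp Lh, ?_, ?_⟩
  · rw [Module.finrank_pos_iff]
    refine ⟨⟨⟨ρ 1, Submodule.subset_span ⟨1, rfl⟩⟩, 0, fun h => ?_⟩⟩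
    have h1 : (ρ 1 : E) = 0 := congrArg Subtype.val h
    rw [map_one] at h1
    exact one_ne_zero h1
  · intro s f h
    have h1 : ∑ i ∈ s, Lh (f i) = 0 := by
      refine LinearMap.ext fun a => Subtype.ext ?_
      rw [LinearMap.sum_apply, AddSubmonoidClass.coe_finsetSum]
      show ∑ i ∈ s, ρ (f i) * (a : E) = 0
      rw [← Finset.sum_mul, h, zero_mul]
    show ∑ i ∈ s, ((RingHom.mapMatrix (Int.castRingHom (ZMod l))).comp
      (LinearMap.toMatrixAlgEquiv b).toAlgHom.toRingHom) (Lh (f i)) = 0
    rw [← map_sum, h1, map_zero]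

theorem thirteen_ne : ((13 : ℕ) : ZMod 5) ≠ 0 := by decide

/-- Extensions by elementary abelian groups without fixed points of elements of order `13`. -/
theorem exists_extension {r : ℕ} (hr : 0 < r) (μ : G →* Matrix (Fin r) (Fin r) (ZMod 5))
    (hμ : ∀ x : G, orderOf x = 13 → ∑ i ∈ Finset.range 13, μ (x ^ i) = 0)
    (hdvd : 5 ∣ Nat.card G) (h10 : ∃ g : G, orderOf g = 10) (h15 : ∃ g : G, orderOf g = 15)
    (hord : ∀ g : G, orderOf g ∣ 4 ∨ orderOf g ∣ 10 ∨ orderOf g ∣ 13 ∨ orderOf g ∣ 15) (N : ℕ) :
    ∃ (H : Type) (_ : Group H) (_ : Finite H), N < Nat.card H ∧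
      ((∀ p : ℕ, p.Prime → (p ∣ Nat.card G ↔ p ∣ Nat.card H)) ∧
      (∀ p q : ℕ, p.Prime → q.Prime → p ≠ q →
        ((∃ g : G, orderOf g = p * q) ↔ (∃ g : H, orderOf g = p * q)))) := by
  classical
  haveI : Fact (Nat.Prime 5) := ⟨by norm_num⟩
  -- a copy of `G` in `Type`
  haveI : Small.{0} G := small_of_injective (Finite.equivFin G).injective
  let G₀ := Shrink.{0} G
  let f : G₀ ≃* G := Shrink.mulEquiv
  haveI : Finite G₀ := Finite.of_equiv _ f.symm.toEquiv
  let V := Fin (N + 1) → Fin r → ZMod 5
  let act : G₀ → V → V := fun g v j => (μ (f g)).mulVec (v j)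
  have hact1 : ∀ v, act 1 v = v := fun v => by funext j; simp [act]
  have hact : ∀ g g' v, act (g * g') v = act g (act g' v) := fun g g' v => by
    funext j; simp [act, Matrix.mulVec_mulVec]
  let φ : G₀ →* MulAut (Multiplicative V) :=
    { toFun := fun g =>
        { toFun := fun v => Multiplicative.ofAdd (act g v.toAdd)
          invFun := fun v => Multiplicative.ofAdd (act g⁻¹ v.toAdd)
          left_inv := fun v => by
            show Multiplicative.ofAdd (act g⁻¹ (act g v.toAdd)) = v
            rw [← hact, inv_mul_cancel, hact1, ofAdd_toAdd]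
          right_inv := fun v => by
            show Multiplicative.ofAdd (act g (act g⁻¹ v.toAdd)) = v
            rw [← hact, mul_inv_cancel, hact1, ofAdd_toAdd]
          map_mul' := fun v w => by
            apply Multiplicative.toAdd.injective
            funext j
            show (μ (f g)).mulVec (v.toAdd j + w.toAdd j) = _
            rw [Matrix.mulVec_add]
            rfl }
      map_one' := MulEquiv.ext fun v => by simp [hact1]
      map_mul' := fun g g' => MulEquiv.ext fun v => by simp [hact] }
  let H := Multiplicative V ⋊[φ] G₀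
  haveI : Finite H := Finite.of_equiv _ SemidirectProduct.equivProd.symm
  have hcard : Nat.card H = 5 ^ (r * (N + 1)) * Nat.card G := by
    rw [SemidirectProduct.card, Nat.card_congr Multiplicative.toAdd, Nat.card_pi,
      Finset.prod_const, Finset.card_univ, Fintype.card_fin, Nat.card_pi, Finset.prod_const,
      Finset.card_univ, Fintype.card_fin, Nat.card_zmod, ← pow_mul, Nat.card_congr f.toEquiv]
  have hexp : ∀ v : Multiplicative V, v ^ 5 = 1 := fun v => by
    apply Multiplicative.toAdd.injective
    rw [toAdd_pow, toAdd_one]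
    funext j i
    show (5 : ℕ) • v.toAdd j i = 0
    rw [nsmul_eq_mul]
    exact mul_eq_zero_of_left rfl _
  refine ⟨H, inferInstance, inferInstance, ?_, fun p hp => ?_, fun p q hp hq hpq => ?_⟩
  · rw [hcard]
    have h1 : N + 1 ≤ r * (N + 1) := Nat.le_mul_of_pos_left _ hr
    have h2 : r * (N + 1) < 5 ^ (r * (N + 1)) := Nat.lt_pow_self (by norm_num)
    have h3 : 1 ≤ Nat.card G := Nat.card_pos
    nlinarith
  · rw [hcard]
    refine ⟨fun h => Dvd.dvd.mul_left h _, fun h => (hp.dvd_mul.1 h).elim (fun h' => ?_) id⟩
    rwa [(Nat.prime_dvd_prime_iff_eq hp (by norm_num)).1 (hp.dvd_of_dvd_pow h')]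
  · refine ⟨fun ⟨g, hg⟩ => ⟨SemidirectProduct.inr (f.symm g), ?_⟩, fun ⟨h, hh⟩ => ?_⟩
    · rw [orderOf_injective _ SemidirectProduct.inr_injective, MulEquiv.orderOf_eq, hg]
    set g : G := f h.right with hg
    have hgpow : ∀ k, f (h ^ k).right = g ^ k := fun k => by
      rw [← SemidirectProduct.rightHom_eq_right, map_pow, map_pow]; rfl
    have hdg : orderOf g ∣ p * q := by
      refine orderOf_dvd_of_pow_eq_one ?_
      rw [← hgpow, ← hh, pow_orderOf_eq_one, SemidirectProduct.one_right, map_one]
    have hker : (h ^ orderOf g).right = 1 := f.injective (by rw [hgpow, pow_orderOf_eq_one, map_one])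
    have h5 : (h ^ orderOf g) ^ 5 = 1 := by
      rw [← SemidirectProduct.inl_left_mul_inr_right (h ^ orderOf g), hker, map_one, mul_one,
        ← map_pow, hexp, map_one]
    have hdvd5 : p * q ∣ orderOf g * 5 := by
      rw [← hh]; exact orderOf_dvd_of_pow_eq_one (by rw [pow_mul, h5])
    by_cases hp5 : p = 5 ∨ q = 5
    · obtain ⟨l, hl, hl5, hpl⟩ : ∃ l, l.Prime ∧ l ≠ 5 ∧ p * q = 5 * l := by
        rcases hp5 with rfl | rfl
        · exact ⟨q, hq, fun h => hpq h.symm, rfl⟩
        · exact ⟨p, hp, hpq, mul_comm _ _⟩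
      rw [hpl] at hdvd5 hdg hh ⊢
      have hlg : l ∣ orderOf g := by
        have : l ∣ orderOf g * 5 := (Dvd.intro_left 5 rfl).trans hdvd5
        exact (hl.dvd_mul.1 this).resolve_right fun h' =>
          hl5 ((Nat.prime_dvd_prime_iff_eq hl (by norm_num)).1 h')
      have hl' : l ∣ 4 ∨ l ∣ 10 ∨ l ∣ 13 ∨ l ∣ 15 :=
        (hord g).imp hlg.trans fun h => h.imp hlg.trans fun h => h.imp hlg.trans hlg.trans
      have hl3 : l = 2 ∨ l = 3 ∨ l = 13 := by
        rcases hl' with h' | h' | h' | h'
        · exact Or.inl ((Nat.prime_dvd_prime_iff_eq hl Nat.prime_two).1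
            (hl.dvd_of_dvd_pow (show l ∣ 2 ^ 2 by simpa using h')))
        · rcases hl.dvd_mul.1 (show l ∣ 2 * 5 from h') with h' | h'
          · exact Or.inl ((Nat.prime_dvd_prime_iff_eq hl Nat.prime_two).1 h')
          · exact absurd ((Nat.prime_dvd_prime_iff_eq hl (by norm_num)).1 h') hl5
        · exact Or.inr (Or.inr ((Nat.prime_dvd_prime_iff_eq hl (by norm_num)).1 h'))
        · rcases hl.dvd_mul.1 (show l ∣ 3 * 5 from h') with h' | h'
          · exact Or.inr (Or.inl ((Nat.prime_dvd_prime_iff_eq hl Nat.prime_three).1 h'))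
          · exact absurd ((Nat.prime_dvd_prime_iff_eq hl (by norm_num)).1 h') hl5
      rcases hl3 with rfl | rfl | rfl
      · exact h10
      · exact h15
      exfalso
      have hg13 : orderOf g = 13 := by
        have := hord g
        have h65 : orderOf g ∈ Nat.divisors 65 := Nat.mem_divisors.2 ⟨hdg, by norm_num⟩
        rw [show Nat.divisors 65 = {1, 5, 13, 65} by decide] at h65
        simp only [Finset.mem_insert, Finset.mem_singleton] at h65
        rcases h65 with e | e | e | e <;> rw [e] at hlg this <;>
          first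
            | exact e
            | (revert hlg this; norm_num)
      set v : Multiplicative V := (h ^ 13).left with hv
      have hv' : h ^ 13 = SemidirectProduct.inl v := by
        refine SemidirectProduct.ext (by simp [hv]) ?_
        rw [SemidirectProduct.right_inl, ← hg13, hker]
      have hfix : φ h.right v = v := by
        have hc : h * SemidirectProduct.inl v = SemidirectProduct.inl v * h := by
          rw [← hv', ← pow_succ', ← pow_succ]
        have := congrArg SemidirectProduct.left hc
        rw [SemidirectProduct.mul_left, SemidirectProduct.mul_left, SemidirectProduct.left_inl,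
          SemidirectProduct.right_inl, map_one, MulAut.one_apply, mul_comm v] at this
        exact mul_left_cancel this
      have hv1 : v = 1 := by
        apply Multiplicative.toAdd.injective
        funext j
        have hj : (μ g).mulVec (v.toAdd j) = v.toAdd j :=
          congrFun (congrArg Multiplicative.toAdd hfix) j
        have hall : ∀ i, (μ (g ^ i)).mulVec (v.toAdd j) = v.toAdd j := fun i => by
          induction i with
          | zero => simp
          | succ i ih => rw [pow_succ, map_mul, ← Matrix.mulVec_mulVec, hj, ih]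
        have h0 := congrArg (fun M => Matrix.mulVec M (v.toAdd j)) (hμ g hg13)
        simp only [Matrix.sum_mulVec, hall, Finset.sum_const, Finset.card_range,
          Matrix.zero_mulVec] at h0
        funext i
        have h00 := congrFun h0 i
        rw [Pi.smul_apply, Pi.zero_apply, nsmul_eq_mul] at h00
        exact (mul_eq_zero.1 h00).resolve_left thirteen_ne
      have h13 : h ^ 13 = 1 := by rw [hv', hv1, map_one]
      have hle := Nat.le_of_dvd (by norm_num) (orderOf_dvd_of_pow_eq_one h13)
      rw [hh] at hle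
      omega
    · refine ⟨g, Nat.dvd_antisymm hdg ?_⟩
      push Not at hp5
      exact Nat.Coprime.dvd_of_dvd_mul_right
        (Nat.Coprime.mul_left ((Nat.coprime_primes hp (by norm_num)).2 hp5.1)
          ((Nat.coprime_primes hq (by norm_num)).2 hp5.2)) hdvd5

end CfsgLib.CharsMore.U34
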